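import Cfsg.Agent.SteinbergSL.Inject

/-!
The Steinberg presentation of `SL(n, F)` and its universal property.
-/

set_option autoImplicit false

open scoped commutatorElement MatrixGroups

namespace Cfsg.Agent.SteinbergSL

universe u v

variable (n : ℕ) (K : Type u) [Field K]

/-- The index type of root subgroups. -/
abbrev Ix (n : ℕ) : Type := {ij : Fin n × Fin n // ij.1 ≠ ij.2}

/-- The Steinberg relators. -/
def rels : Set (FreeGroup (Ix n × K)) :=
  {g | ∃ (a : Ix n) (t u : K),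
      g = FreeGroup.of (a, t) * FreeGroup.of (a, u) * (FreeGroup.of (a, t + u))⁻¹} ∪
    {g | ∃ (a b : Ix n) (t u : K), a.1.1 ≠ b.1.2 ∧ a.1.2 ≠ b.1.1 ∧
      g = FreeGroup.of (a, t) * FreeGroup.of (b, u) * (FreeGroup.of (a, t))⁻¹ * (FreeGroup.of (b, u))⁻¹} ∪
    {g | ∃ (a b : Ix n) (h : a.1.1 ≠ b.1.2) (t u : K), a.1.2 = b.1.1 ∧
      g = FreeGroup.of (a, t) * FreeGroup.of (b, u) * (FreeGroup.of (a, t))⁻¹ * (FreeGroup.of (b, u))⁻¹ *
        (FreeGroup.of (⟨(a.1.1, b.1.2), h⟩, t * u))⁻¹}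

variable {n} {K}

/-- Relations in any group. -/
theorem lift_rels {G : Type v} [Group G] (x : Fin n → Fin n → K → G)
    (hadd : ∀ i j, i ≠ j → ∀ a b, x i j (a + b) = x i j a * x i j b)
    (hcomm : ∀ i j k l, i ≠ j → k ≠ l → j ≠ k → i ≠ l → ∀ a b, Commute (x i j a) (x k l b))
    (hrel : ∀ i j k, i ≠ j → j ≠ k → i ≠ k → ∀ a b, ⁅x i j a, x j k b⁆ = x i k (a * b)) :
    ∀ r ∈ rels n K, FreeGroup.lift (fun z : Ix n × K => x z.1.1.1 z.1.1.2 z.2) r = 1 := by
  rintro r ((⟨a, t, u, rfl⟩ | ⟨a, b, t, u, h1, h2, rfl⟩) | ⟨a, b, h, t, u, h2, rfl⟩)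
  · simp only [map_mul, map_inv, FreeGroup.lift_apply_of]
    rw [hadd _ _ a.2, mul_inv_eq_one]
  · simp only [map_mul, map_inv, FreeGroup.lift_apply_of]
    rw [(hcomm _ _ _ _ a.2 b.2 h2 h1 t u).eq]; group
  · simp only [map_mul, map_inv, FreeGroup.lift_apply_of]
    rw [← commutatorElement_def]
    obtain ⟨⟨i, j⟩, hij⟩ := a
    obtain ⟨⟨j', k⟩, hjk⟩ := b
    obtain rfl : j = j' := h2
    rw [hrel i j k hij hjk h, mul_inv_cancel]

variable [Finite K]

theorem exists_equiv (hn : 3 ≤ n) :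
    ∃ e : PresentedGroup (rels n K) ≃* Matrix.SpecialLinearGroup (Fin n) K,
      ∀ (a : Ix n) (t : K), (e (PresentedGroup.of (a, t))) =
        Matrix.SpecialLinearGroup.transvection a.2 t := by
  have := Fintype.ofFinite K
  let σ : PresentedGroup (rels n K) →* Matrix.SpecialLinearGroup (Fin n) K :=
    PresentedGroup.toGroup (lift_rels (fun i j => SLMult.tx i j)
      (fun i j h => SLMult.tx_add h)
      (fun i j k l h1 h2 h3 h4 a b => SLMult.tx_comm h1 h2 h3 h4 a b)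
      (fun i j k h1 h2 h3 a b => SLMult.tx_rel h1 h2 h3 a b))
  have hσ : ∀ (a : Ix n) (t : K), σ (PresentedGroup.of (a, t)) =
      Matrix.SpecialLinearGroup.transvection a.2 t := fun a t => by
    rw [PresentedGroup.toGroup.of, SLMult.tx_eq a.2]
  let Φ : SLMult.Sys σ :=
    { X := fun i j a => if h : i ≠ j then PresentedGroup.of ((⟨(i, j), h⟩ : Ix n), a) else 1
      map := fun {i j} h a => by rw [dif_pos h, hσ]
      add := fun {i j} h a b => by
        simp only [dif_pos h]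
        have hr : FreeGroup.of ((⟨(i, j), h⟩ : Ix n), a) * FreeGroup.of (⟨(i, j), h⟩, b) *
            (FreeGroup.of (⟨(i, j), h⟩, a + b))⁻¹ ∈ rels n K := Or.inl (Or.inl ⟨_, a, b, rfl⟩)
        have h1 := PresentedGroup.one_of_mem hr
        rw [map_mul, map_mul, map_inv, mul_inv_eq_one] at h1
        exact h1.symm
      comm := fun {i j k l} hij hkl hjk hil a b => by
        simp only [dif_pos hij, dif_pos hkl]
        have hr : FreeGroup.of ((⟨(i, j), hij⟩ : Ix n), a) * FreeGroup.of (⟨(k, l), hkl⟩, b) *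
            (FreeGroup.of (⟨(i, j), hij⟩, a))⁻¹ * (FreeGroup.of (⟨(k, l), hkl⟩, b))⁻¹ ∈ rels n K :=
          Or.inl (Or.inr ⟨_, _, a, b, hil, hjk, rfl⟩)
        have h1 := PresentedGroup.one_of_mem hr
        rw [map_mul, map_mul, map_mul, map_inv, map_inv, ← commutatorElement_def] at h1
        exact commutatorElement_eq_one_iff_commute.1 h1
      rel := fun {i j k} hij hjk hik a b => by
        simp only [dif_pos hij, dif_pos hjk, dif_pos hik]
        have hr : FreeGroup.of ((⟨(i, j), hij⟩ : Ix n), a) * FreeGroup.of (⟨(j, k), hjk⟩, b) *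
            (FreeGroup.of (⟨(i, j), hij⟩, a))⁻¹ * (FreeGroup.of (⟨(j, k), hjk⟩, b))⁻¹ *
            (FreeGroup.of (⟨(i, k), hik⟩, a * b))⁻¹ ∈ rels n K :=
          Or.inr ⟨⟨(i, j), hij⟩, ⟨(j, k), hjk⟩, hik, a, b, rfl, rfl⟩
        have h1 := PresentedGroup.one_of_mem hr
        simp only [map_mul, map_inv] at h1
        rw [← commutatorElement_def, mul_inv_eq_one] at h1
        exact h1 }
  have htop : Φ.E Finset.univ = ⊤ := by
    rw [eq_top_iff, ← PresentedGroup.closure_range_of (rels := rels n K)]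
    refine Subgroup.closure_mono ?_
    rintro _ ⟨⟨⟨⟨i, j⟩, hij⟩, a⟩, rfl⟩
    refine ⟨i, Finset.mem_univ _, j, Finset.mem_univ _, hij, a, ?_⟩
    simp only [Φ]; rw [dif_pos (show i ≠ j from hij)]
  exact ⟨MulEquiv.ofBijective σ (Φ.bijective_of_top hn htop), hσ⟩

/-- The universal property of `SL(n, K)`. -/
theorem exists_hom (hn : 3 ≤ n) {G : Type v} [Group G] (x : Fin n → Fin n → K → G)
    (hadd : ∀ i j, i ≠ j → ∀ a b, x i j (a + b) = x i j a * x i j b)
    (hcomm : ∀ i j k l, i ≠ j → k ≠ l → j ≠ k → i ≠ l → ∀ a b, Commute (x i j a) (x k l b))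
    (hrel : ∀ i j k, i ≠ j → j ≠ k → i ≠ k → ∀ a b, ⁅x i j a, x j k b⁆ = x i k (a * b)) :
    ∃ f : Matrix.SpecialLinearGroup (Fin n) K →* G,
      ∀ i j (h : i ≠ j) a, f (Matrix.SpecialLinearGroup.transvection h a) = x i j a := by
  obtain ⟨e, he⟩ := exists_equiv (K := K) hn
  refine ⟨(PresentedGroup.toGroup (lift_rels x hadd hcomm hrel)).comp e.symm.toMonoidHom,
    fun i j h a => ?_⟩
  rw [← he ⟨(i, j), h⟩ a]
  simp

end Cfsg.Agent.SteinbergSL
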