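import Cfsg.Agent.SteinbergSL.RankOne

/-!
A group with lifts of the transvections of `SL(n, F)`, `n ≥ 3`, satisfying the Steinberg relations
and generated by them is `SL(n, F)`.
-/

set_option autoImplicit false
set_option maxHeartbeats 1000000

open scoped commutatorElement MatrixGroups

namespace Cfsg.Agent.SLMult.Sys

universe u

variable {F : Type u} [Field F] [Fintype F] {n : ℕ} {Γ : Type u} [Group Γ]
  {σ : Γ →* Matrix.SpecialLinearGroup (Fin n) F} (Φ : Sys σ) {i j l : Fin n}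

theorem squares_generate (S : AddSubgroup F) (h : ∀ a : F, a * a ∈ S) (b : F) : b ∈ S := by
  by_cases h2 : ringChar F = 2
  · obtain ⟨a, rfl⟩ := FiniteField.isSquare_of_char_two h2 b
    exact h a
  · have h2' : (2 : F) ≠ 0 := Ring.two_ne_zero h2
    rw [show b = (b + 1) / 2 * ((b + 1) / 2) - (b - 1) / 2 * ((b - 1) / 2) by field_simp; ring]
    exact sub_mem (h _) (h _)

include Φ in
/-- The order bound for a rank one piece. -/
theorem rank_one_card (hij : i ≠ j) (hil : i ≠ l) (hjl : j ≠ l) :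
    Finite (Φ.E {i, j}) ∧ Nat.card (Φ.E {i, j}) ≤
      Fintype.card F * (Fintype.card F - 1) * (Fintype.card F + 1) := by
  obtain ⟨ν, hν⟩ := SL2Pres.exists_gen_unit F
  set P := Φ.E {i, j}
  let φ : F → P := fun a => ⟨Φ.X i j a, Φ.X_mem_E (by simp) (by simp) hij a⟩
  let h : P := ⟨Φ.H i j (ν : F), Φ.H_mem hij _⟩
  let w : P := ⟨Φ.W i j 1, Φ.W_mem hij _⟩
  let Hm : Fˣ →* P :=
    { toFun := fun u => ⟨Φ.H i j (u : F), Φ.H_mem hij _⟩
      map_one' := Subtype.ext (by simp [Φ.H_one hij])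
      map_mul' := fun u v => Subtype.ext (Φ.H_mul hij hil hjl u v) }
  have hHm : h = Hm ν := rfl
  have hpow : ∀ x : Fˣ, ∃ a : ℕ, x = ν ^ a := fun x => by
    obtain ⟨a, ha⟩ := SL2Pres.exists_pow_eq hν x.ne_zero
    exact ⟨a, Units.ext (by rw [ha, Units.val_pow_eq_pow_val])⟩
  have hHc : ∀ u : Fˣ, ∀ a, Φ.H i j (u : F) * Φ.X i j a * (Φ.H i j (u : F))⁻¹ =
      Φ.X i j ((u : F) ^ 2 * a) := fun u a => by
    rw [H, show ∀ p q r : Γ, p * q * r * (p * q)⁻¹ = p * (q * r * q⁻¹) * p⁻¹ from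
      fun p q r => by group, (Φ.W_self hij hil hjl (neg_ne_zero.2 one_ne_zero) a).1,
      (Φ.W_self hij hil hjl u.ne_zero _).2]
    congr 1; ring
  have hwW : ∀ u : Fˣ, Φ.W i j 1 * Φ.H i j (u : F) * (Φ.W i j 1)⁻¹ = Φ.H i j ((u⁻¹ : Fˣ) : F) := by
    intro u
    conv_lhs => enter [1, 2]; unfold H
    rw [← conj_mul, Φ.W_conj_W hij hil hjl one_ne_zero u.ne_zero,
      Φ.W_conj_W hij hil hjl one_ne_zero (neg_ne_zero.2 one_ne_zero)]
    simp [H, div_neg]
  obtain ⟨e, he⟩ := hpow (-1)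
  obtain ⟨hfin, hcard⟩ := SL2Pres.card_le (P := P) φ h w (Fintype.card F - 1) ((ν : F) ^ 2)
    (by have := Fintype.one_lt_card (α := F); omega) (pow_ne_zero _ ν.ne_zero)
    (Subtype.ext (Φ.zero hij)) (fun a b => Subtype.ext (Φ.add hij a b))
    (fun b => Subtype.ext (hHc ν b))
    (by rw [hHm, ← map_pow, ← hν, pow_orderOf_eq_one, map_one])
    (by rw [hHm, ← map_inv]; exact Subtype.ext (hwW ν))
    e (by
      rw [hHm, ← map_pow, ← he, show Hm (-1) = (Hm (-1))⁻¹ by rw [← map_inv, inv_neg, inv_one]]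
      apply Subtype.ext
      show Φ.W i j 1 * Φ.W i j 1 = (Φ.H i j ((-1 : Fˣ) : F))⁻¹
      rw [Units.val_neg, Units.val_one, H, mul_inv_rev, Φ.W_inv hij, neg_neg])
    (fun b hb => by
      obtain ⟨k, hk⟩ := hpow ((Units.mk0 b hb)⁻¹ * -1)
      refine ⟨0, b, by rw [pow_zero, one_mul], -b⁻¹, -b⁻¹, k, ?_⟩
      rw [hHm, ← map_pow, ← hk, map_mul]
      apply Subtype.ext
      show Φ.W i j 1 * Φ.X i j b * Φ.W i j 1 = Φ.X i j (-b⁻¹) * (Φ.H i j (((Units.mk0 b hb)⁻¹ :
        Fˣ) : F) * Φ.H i j ((-1 : Fˣ) : F)) * Φ.W i j 1 * Φ.X i j (-b⁻¹)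
      have h1 : Φ.X i j b = Φ.X j i b⁻¹ * Φ.W i j b * Φ.X j i b⁻¹ := by
        rw [Φ.W_alt hij hil hjl hb, ← Φ.inv hij.symm]; group
      have h2 : Φ.W i j 1 * Φ.X j i b⁻¹ = Φ.X i j (-b⁻¹) * Φ.W i j 1 := by
        rw [← mul_inv_eq_iff_eq_mul, (Φ.W_self hij hil hjl one_ne_zero _).2]; congr 1; ring
      have h3 : Φ.X j i b⁻¹ * Φ.W i j 1 = Φ.W i j 1 * Φ.X i j (-b⁻¹) := by
        have := mul_inv_eq_iff_eq_mul.1 (Φ.W_self hij hil hjl one_ne_zero (-b⁻¹)).1
        rw [this]; congr 2; ring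
      have h4 : Φ.W i j 1 * Φ.H i j b = Φ.H i j (((Units.mk0 b hb)⁻¹ : Fˣ) : F) * Φ.W i j 1 :=
        mul_inv_eq_iff_eq_mul.1 (hwW (Units.mk0 b hb))
      have h5 : Φ.W i j 1 * Φ.W i j 1 = Φ.H i j ((-1 : Fˣ) : F) := by
        have hm : Hm (-1) = (Hm (-1))⁻¹ := by rw [← map_inv, inv_neg, inv_one]
        have hm' : Φ.H i j ((-1 : Fˣ) : F) = (Φ.H i j ((-1 : Fˣ) : F))⁻¹ := congrArg Subtype.val hm
        rw [hm', Units.val_neg, Units.val_one, H, mul_inv_rev, Φ.W_inv hij, neg_neg]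
      calc Φ.W i j 1 * Φ.X i j b * Φ.W i j 1
          = (Φ.W i j 1 * Φ.X j i b⁻¹) * Φ.W i j b * (Φ.X j i b⁻¹ * Φ.W i j 1) := by rw [h1]; group
        _ = Φ.X i j (-b⁻¹) * ((Φ.W i j 1 * Φ.H i j b) * (Φ.W i j 1 * Φ.W i j 1)) *
              Φ.X i j (-b⁻¹) := by rw [h2, h3, Φ.W_eq hij b]; group
        _ = _ := by
          rw [h4, ← h5]; group)
    (by
      rw [eq_top_iff]
      set K := Subgroup.closure ({φ 1, h, w} : Set P)
      have hhK : h ∈ K := Subgroup.subset_closure (by simp)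
      have hwK : w ∈ K := Subgroup.subset_closure (by simp)
      have hsq : ∀ a : F, φ (a * a) ∈ K := by
        intro a
        by_cases ha : a = 0
        · subst ha
          rw [mul_zero, show φ 0 = 1 from Subtype.ext (Φ.zero hij)]; exact one_mem _
        obtain ⟨k, hk⟩ := hpow (Units.mk0 a ha)
        have h1K : φ 1 ∈ K := Subgroup.subset_closure (by simp)
        have := mul_mem (mul_mem (pow_mem hhK k) h1K) (inv_mem (pow_mem hhK k))
        rw [hHm, ← map_pow, ← hk] at this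
        convert this using 1
        apply Subtype.ext
        show Φ.X i j (a * a) = Φ.H i j a * Φ.X i j 1 * (Φ.H i j a)⁻¹
        rw [show a = ((Units.mk0 a ha : Fˣ) : F) from rfl, hHc, mul_one, sq]
      let S : AddSubgroup F :=
        { carrier := {a | φ a ∈ K}
          add_mem' := fun {a b} ha hb => by
            show φ (a + b) ∈ K
            rw [show φ (a + b) = φ a * φ b from Subtype.ext (Φ.add hij a b)]; exact mul_mem ha hb
          zero_mem' := by
            show φ 0 ∈ K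
            rw [show φ 0 = 1 from Subtype.ext (Φ.zero hij)]; exact one_mem _
          neg_mem' := fun {a} ha => by
            show φ (-a) ∈ K
            rw [show φ (-a) = (φ a)⁻¹ from Subtype.ext (Φ.inv hij a).symm]; exact inv_mem ha }
      have hall : ∀ a, φ a ∈ K := fun a => squares_generate S hsq a
      rintro ⟨g, hg⟩ -
      induction hg using Subgroup.closure_induction with
      | mem z hz =>
        rcases Φ.gens_pair hz with ⟨-, c, rfl⟩ | ⟨-, c, rfl⟩
        · exact hall c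
        · have := mul_mem (mul_mem hwK (hall (-c))) (inv_mem hwK)
          convert this using 1
          apply Subtype.ext
          show Φ.X j i c = Φ.W i j 1 * Φ.X i j (-c) * (Φ.W i j 1)⁻¹
          rw [(Φ.W_self hij hil hjl one_ne_zero _).1]; congr 1; ring
      | one => exact one_mem K
      | mul a b ha hb iha ihb => exact mul_mem iha ihb
      | inv a ha iha => exact inv_mem iha)
  exact ⟨hfin, hcard⟩

include Φ in
/-- Rank one pieces map injectively. -/
theorem rank_one_injective (hij : i ≠ j) (hil : i ≠ l) (hjl : j ≠ l) :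
    ∀ g ∈ Φ.E {i, j}, σ g = 1 → g = 1 := by
  obtain ⟨hfin, hcard⟩ := Φ.rank_one_card hij hil hjl
  have := hfin
  have hsurj := blockHom_surjective Φ hij
  have hT : Nat.card SL(2, F) = Fintype.card F * (Fintype.card F - 1) * (Fintype.card F + 1) := by
    rw [Classical.card_sl2]
    obtain ⟨m, hm⟩ : ∃ m, Fintype.card F = m + 1 :=
      ⟨_, (Nat.sub_add_cancel (Fintype.card_pos (α := F))).symm⟩
    rw [hm]
    simp only [Nat.add_sub_cancel]
    rw [show (m + 1) ^ 2 = m * (m + 2) + 1 by ring, Nat.add_sub_cancel]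
    ring
  have hle := Nat.card_le_card_of_surjective _ hsurj
  have hb : Function.Bijective (blockHom Φ hij) :=
    (Nat.bijective_iff_surjective_and_card _).2 ⟨hsurj, le_antisymm (hT ▸ hcard) hle⟩
  intro g hg h1
  have h2 : (⟨g, hg⟩ : Φ.E {i, j}) = 1 := hb.1 (by rw [map_one]; exact (blockHom_eq_one Φ hij _).2 h1)
  exact congrArg Subtype.val h2

include Φ in
/-- Steinberg generated groups are special linear. -/
theorem bijective_of_top (hn : 3 ≤ n) (htop : Φ.E Finset.univ = ⊤) : Function.Bijective σ := by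
  refine ⟨(MonoidHom.ker_eq_bot_iff σ).1 ((Subgroup.eq_bot_iff_forall _).2 fun g hg => ?_), ?_⟩
  · refine Φ.inj_E (fun i j hij => ?_) Finset.univ g (htop ▸ Subgroup.mem_top g) hg
    obtain ⟨l, -, hl⟩ := Finset.exists_mem_notMem_of_card_lt_card
      (s := ({i, j} : Finset (Fin n))) (t := Finset.univ) (by
        rw [Finset.card_pair hij, Finset.card_univ, Fintype.card_fin]; omega)
    simp only [Finset.mem_insert, Finset.mem_singleton, not_or] at hl
    exact Φ.rank_one_injective hij (Ne.symm hl.1) (Ne.symm hl.2)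
  · rw [← MonoidHom.range_eq_top]
    exact Classical.sl_eq_top_of_transvection _ fun u v huv c => ⟨Φ.X u v c, Φ.map huv c⟩

end Cfsg.Agent.SLMult.Sys
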