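import Mathlib
import Cfsg.Agent.SLMult.Main
import Cfsg.Agent.SL2Pres.Presentations

/-!
Over a finite field the Steinberg symbols vanish, so the rank one pieces of a Steinberg group of
rank at least two are `SL(2, F)`.
-/

set_option autoImplicit false
set_option maxHeartbeats 1000000

open scoped commutatorElement MatrixGroups

namespace Cfsg.Agent.SLMult.Sys

variable {F : Type*} [Field F] {ι : Type*} [Fintype ι] [DecidableEq ι] {Γ : Type*} [Group Γ]
  {σ : Γ →* Matrix.SpecialLinearGroup ι F} (Φ : Sys σ)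

/-- The Weyl element. -/
def W (i j : ι) (t : F) : Γ := Φ.X i j t * Φ.X j i (-t⁻¹) * Φ.X i j t

/-- The torus element. -/
def H (i j : ι) (t : F) : Γ := Φ.W i j t * Φ.W i j (-1)

variable {i j l : ι}

theorem conj_three (p q r z : Γ) :
    p * q * r * z * (p * q * r)⁻¹ = p * (q * (r * z * r⁻¹) * q⁻¹) * p⁻¹ := by group

theorem W_inv (hij : i ≠ j) (t : F) : (Φ.W i j t)⁻¹ = Φ.W i j (-t) := by
  unfold W
  rw [mul_inv_rev, mul_inv_rev, Φ.inv hij, Φ.inv hij.symm, inv_neg, neg_neg, mul_assoc]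

theorem W_zero (hij : i ≠ j) : Φ.W i j 0 = 1 := by
  unfold W; rw [inv_zero, neg_zero, Φ.zero hij, Φ.zero hij.symm, mul_one, mul_one]

theorem W_row (hij : i ≠ j) (hil : i ≠ l) (hjl : j ≠ l) {t : F} (ht : t ≠ 0) (a : F) :
    Φ.W i j t * Φ.X i l a * (Φ.W i j t)⁻¹ = Φ.X j l (-(a / t)) ∧
    Φ.W i j t * Φ.X j l a * (Φ.W i j t)⁻¹ = Φ.X i l (t * a) := by
  have hc : ∀ b c, Φ.X j l b * Φ.X i l c = Φ.X i l c * Φ.X j l b := fun b c =>
    (Φ.comm hjl hil hil.symm hjl b c).eq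
  constructor
  · unfold W
    rw [conj_three, Φ.conj_fix hij hil hij.symm hil, Φ.conj_right hij.symm hil hjl,
      ← conj_mul, Φ.conj_right hij hjl hil, Φ.conj_fix hij hil hij.symm hil, mul_assoc, hc,
      ← mul_assoc, ← Φ.add hil, show t * (-t⁻¹ * a) + a = 0 by field_simp; ring, Φ.zero hil,
      one_mul, show -t⁻¹ * a = -(a / t) by field_simp]
  · unfold W
    rw [conj_three, Φ.conj_right hij hjl hil, ← conj_mul (b := Φ.X j i (-t⁻¹)), Φ.conj_right hij.symm hil hjl,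
      Φ.conj_fix hij.symm hjl hij hjl, hc, mul_assoc (Φ.X i l (t * a)), ← Φ.add hjl,
      show -t⁻¹ * (t * a) + a = 0 by field_simp; ring, Φ.zero hjl, mul_one,
      Φ.conj_fix hij hil hij.symm hil]

theorem W_col (hij : i ≠ j) (hil : i ≠ l) (hjl : j ≠ l) {t : F} (ht : t ≠ 0) (a : F) :
    Φ.W i j t * Φ.X l i a * (Φ.W i j t)⁻¹ = Φ.X l j (-(t * a)) ∧
    Φ.W i j t * Φ.X l j a * (Φ.W i j t)⁻¹ = Φ.X l i (a / t) := by
  have hc : ∀ b c, Φ.X l i b * Φ.X l j c = Φ.X l j c * Φ.X l i b := fun b c =>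
    (Φ.comm hil.symm hjl.symm hil hjl.symm b c).eq
  constructor
  · unfold W
    rw [conj_three, Φ.conj_left hil.symm hij hjl.symm, ← conj_mul (b := Φ.X j i (-t⁻¹)),
      Φ.conj_left hjl.symm hij.symm hil.symm, Φ.conj_fix hij.symm hil.symm hil hij.symm,
      mul_assoc (Φ.X l i _), ← hc, ← mul_assoc (Φ.X l i _), ← Φ.add hil.symm,
      show -(-(a * t) * -t⁻¹) + a = 0 by field_simp; ring, Φ.zero hil.symm, one_mul,
      Φ.conj_fix hij hjl.symm hjl hij, show -(a * t) = -(t * a) by ring]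
  · unfold W
    rw [conj_three, Φ.conj_fix hij hjl.symm hjl hij, Φ.conj_left hjl.symm hij.symm hil.symm,
      ← conj_mul, Φ.conj_left hil.symm hij hjl.symm, Φ.conj_fix hij hjl.symm hjl hij,
      mul_assoc (Φ.X l j _), hc, ← mul_assoc (Φ.X l j _), ← Φ.add hjl.symm,
      show -(-(a * -t⁻¹) * t) + a = 0 by field_simp; ring, Φ.zero hjl.symm, one_mul,
      show -(a * -t⁻¹) = a / t by field_simp]

theorem W_self (hij : i ≠ j) (hil : i ≠ l) (hjl : j ≠ l) {t : F} (ht : t ≠ 0) (a : F) :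
    Φ.W i j t * Φ.X i j a * (Φ.W i j t)⁻¹ = Φ.X j i (-(a / t ^ 2)) ∧
    Φ.W i j t * Φ.X j i a * (Φ.W i j t)⁻¹ = Φ.X i j (-(t ^ 2 * a)) := by
  have h : ∀ p q : Γ, Φ.W i j t * ⁅p, q⁆ * (Φ.W i j t)⁻¹ =
      ⁅Φ.W i j t * p * (Φ.W i j t)⁻¹, Φ.W i j t * q * (Φ.W i j t)⁻¹⁆ := fun p q =>
    map_commutatorElement (MulAut.conj (Φ.W i j t)).toMonoidHom p q
  constructor
  · conv_lhs => rw [show Φ.X i j a = Φ.X i j (a * 1) by rw [mul_one],
      ← Φ.rel hil hjl.symm hij a 1]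
    rw [h, (Φ.W_row hij hil hjl ht a).1, (Φ.W_col hij hil hjl ht 1).2,
      Φ.rel hjl hil.symm hij.symm]
    congr 1; field_simp
  · conv_lhs => rw [show Φ.X j i a = Φ.X j i (a * 1) by rw [mul_one],
      ← Φ.rel hjl hil.symm hij.symm a 1]
    rw [h, (Φ.W_row hij hil hjl ht a).2, (Φ.W_col hij hil hjl ht 1).1, Φ.rel hil hjl.symm hij]
    congr 1; ring

theorem W_conj_W' (hij : i ≠ j) (hil : i ≠ l) (hjl : j ≠ l) {u : F} (hu : u ≠ 0) {v : F}
    (hv : v ≠ 0) :
    Φ.W i j u * Φ.W i j v * (Φ.W i j u)⁻¹ =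
      Φ.X j i (-(v / u ^ 2)) * Φ.X i j (u ^ 2 / v) * Φ.X j i (-(v / u ^ 2)) := by
  conv_lhs => enter [1, 2]; unfold W
  rw [← conj_mul, ← conj_mul, (Φ.W_self hij hil hjl hu v).1, (Φ.W_self hij hil hjl hu _).2]
  congr 3; field_simp

theorem W_alt (hij : i ≠ j) (hil : i ≠ l) (hjl : j ≠ l) {t : F} (ht : t ≠ 0) :
    Φ.W i j t = Φ.X j i (-t⁻¹) * Φ.X i j t * Φ.X j i (-t⁻¹) := by
  have h := Φ.W_conj_W' hij hil hjl ht ht
  rw [mul_inv_cancel_right] at h
  rw [h, show t / t ^ 2 = t⁻¹ by field_simp, show t ^ 2 / t = t by field_simp]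

theorem W_conj_W (hij : i ≠ j) (hil : i ≠ l) (hjl : j ≠ l) {u : F} (hu : u ≠ 0) {v : F}
    (hv : v ≠ 0) : Φ.W i j u * Φ.W i j v * (Φ.W i j u)⁻¹ = Φ.W i j (u ^ 2 / v) := by
  rw [Φ.W_conj_W' hij hil hjl hu hv,
    Φ.W_alt hij hil hjl (t := u ^ 2 / v) (div_ne_zero (pow_ne_zero _ hu) hv), inv_div]

theorem H_one (hij : i ≠ j) : Φ.H i j 1 = 1 := by
  unfold H; rw [← Φ.W_inv hij, mul_inv_cancel]

theorem W_eq (hij : i ≠ j) (t : F) : Φ.W i j t = Φ.H i j t * Φ.W i j 1 := by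
  unfold H; rw [← Φ.W_inv hij, inv_mul_cancel_right]

theorem H_conj_H (hij : i ≠ j) (hil : i ≠ l) (hjl : j ≠ l) {u v : F} (hu : u ≠ 0) (hv : v ≠ 0) :
    Φ.H i j u * Φ.H i l v * (Φ.H i j u)⁻¹ = Φ.H i l (u * v) * (Φ.H i l u)⁻¹ := by
  have hr : ∀ a, Φ.H i j u * Φ.X i l a * (Φ.H i j u)⁻¹ = Φ.X i l (u * a) := fun a => by
    rw [H, show ∀ p q r : Γ, p * q * r * (p * q)⁻¹ = p * (q * r * q⁻¹) * p⁻¹ from
      fun p q r => by group, (Φ.W_row hij hil hjl (neg_ne_zero.2 one_ne_zero) a).1,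
      show -(a / -1) = a by ring, (Φ.W_row hij hil hjl hu a).2]
  have hc : ∀ a, Φ.H i j u * Φ.X l i a * (Φ.H i j u)⁻¹ = Φ.X l i (a / u) := fun a => by
    rw [H, show ∀ p q r : Γ, p * q * r * (p * q)⁻¹ = p * (q * r * q⁻¹) * p⁻¹ from
      fun p q r => by group, (Φ.W_col hij hil hjl (neg_ne_zero.2 one_ne_zero) a).1,
      show -(-1 * a) = a by ring, (Φ.W_col hij hil hjl hu a).2]
  have hw : ∀ t : F, Φ.H i j u * Φ.W i l t * (Φ.H i j u)⁻¹ = Φ.W i l (u * t) := fun t => by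
    unfold W
    rw [← conj_mul, ← conj_mul, hr, hc]
    congr 3; field_simp
  conv_lhs => enter [1, 2]; unfold H
  rw [← conj_mul, hw, hw, mul_neg_one]
  unfold H
  rw [mul_inv_rev, ← mul_assoc, mul_inv_cancel_right, Φ.W_inv hil]

theorem W_mem (hij : i ≠ j) (t : F) : Φ.W i j t ∈ Φ.E {i, j} :=
  mul_mem (mul_mem (Φ.X_mem_E (by simp) (by simp) hij _) (Φ.X_mem_E (by simp) (by simp) hij.symm _))
    (Φ.X_mem_E (by simp) (by simp) hij _)

theorem H_mem (hij : i ≠ j) (t : F) : Φ.H i j t ∈ Φ.E {i, j} :=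
  mul_mem (Φ.W_mem hij _) (Φ.W_mem hij _)

theorem act_W (hij : i ≠ j) {t : F} (ht : t ≠ 0) :
    act σ (Φ.W i j t) (e i) = (-t⁻¹) • e j ∧ act σ (Φ.W i j t) (e j) = t • e i ∧
      ∀ c, c ≠ i → c ≠ j → act σ (Φ.W i j t) (e c) = e c := by
  refine ⟨?_, ?_, fun c hci hcj => (Φ.supp (Φ.W_mem hij t)).2 c (by simp [hci, hcj])⟩
  · funext r
    simp only [W, act_mul, Φ.act_X hij, Φ.act_X hij.symm]
    by_cases hri : r = i
    · subst hri; simp [e, hij, hij.symm, ht]
    by_cases hrj : r = j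
    · subst hrj; simp [e, hij, hij.symm]
    simp [e, hri, hrj, hij, hij.symm]
  · funext r
    simp only [W, act_mul, Φ.act_X hij, Φ.act_X hij.symm]
    by_cases hri : r = i
    · subst hri; simp [e, hij, hij.symm, ht]
    by_cases hrj : r = j
    · subst hrj; simp [e, hij, hij.symm, ht]
    simp [e, hri, hrj, hij, hij.symm]

theorem act_H (hij : i ≠ j) {t : F} (ht : t ≠ 0) :
    act σ (Φ.H i j t) (e i) = t • e i ∧ act σ (Φ.H i j t) (e j) = t⁻¹ • e j ∧
      ∀ c, c ≠ i → c ≠ j → act σ (Φ.H i j t) (e c) = e c := by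
  obtain ⟨a1, a2, a3⟩ := Φ.act_W hij ht
  obtain ⟨b1, b2, b3⟩ := Φ.act_W hij (neg_ne_zero.2 (one_ne_zero : (1 : F) ≠ 0))
  refine ⟨?_, ?_, fun c hci hcj => by rw [H, act_mul, b3 c hci hcj, a3 c hci hcj]⟩
  · rw [H, act_mul, b1, act_smul, a2, smul_smul]; congr 1; simp
  · rw [H, act_mul, b2, act_smul, a1, smul_smul]; congr 1; ring

theorem σ_H_mul (hij : i ≠ j) {u v : F} (hu : u ≠ 0) (hv : v ≠ 0) :
    σ (Φ.H i j (u * v) * (Φ.H i j u)⁻¹ * (Φ.H i j v)⁻¹) = 1 := by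
  refine eq_one_of_act fun c => ?_
  have key : act σ (Φ.H i j (u * v)) (e c) = act σ (Φ.H i j v) (act σ (Φ.H i j u) (e c)) := by
    obtain ⟨a1, a2, a3⟩ := Φ.act_H hij hu
    obtain ⟨b1, b2, b3⟩ := Φ.act_H hij hv
    obtain ⟨c1, c2, c3⟩ := Φ.act_H hij (mul_ne_zero hu hv)
    by_cases hci : c = i
    · subst hci; rw [a1, act_smul, b1, c1, smul_smul]
    by_cases hcj : c = j
    · subst hcj; rw [a2, act_smul, b2, c2, smul_smul, mul_inv]
    rw [a3 c hci hcj, b3 c hci hcj, c3 c hci hcj]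
  rw [mul_assoc, ← mul_inv_rev, act_mul]
  have hk : σ (Φ.H i j (u * v)) = σ (Φ.H i j v * Φ.H i j u) := by
    refine Subtype.ext (Matrix.ext_of_mulVec_single fun c' => ?_)
    obtain ⟨a1, a2, a3⟩ := Φ.act_H hij hu
    obtain ⟨b1, b2, b3⟩ := Φ.act_H hij hv
    obtain ⟨c1, c2, c3⟩ := Φ.act_H hij (mul_ne_zero hu hv)
    show act σ (Φ.H i j (u * v)) (e c') = act σ (Φ.H i j v * Φ.H i j u) (e c')
    rw [act_mul]
    by_cases hci : c' = i
    · subst hci; rw [a1, act_smul, b1, c1, smul_smul]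
    by_cases hcj : c' = j
    · subst hcj; rw [a2, act_smul, b2, c2, smul_smul, mul_inv]
    rw [a3 c' hci hcj, b3 c' hci hcj, c3 c' hci hcj]
  rw [← act_mul, act, map_mul, hk, map_inv, mul_inv_cancel, Matrix.SpecialLinearGroup.coe_one,
    Matrix.one_mulVec]

include Φ in
theorem kernel_commute (hij : i ≠ j) (hil : i ≠ l) (hjl : j ≠ l) {z : Γ}
    (hz : z ∈ Φ.E {i, j}) (h1 : σ z = 1) {g : Γ} (hg : g ∈ Φ.E Finset.univ) : Commute z g := by
  have hact : ∀ v : ι → F, act σ z v = v := fun v => by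
    rw [act, h1, Matrix.SpecialLinearGroup.coe_one, Matrix.one_mulVec]
  have hact' : ∀ v : ι → F, act σ z⁻¹ v = v := fun v => by
    conv_lhs => rw [← hact v]
    exact act_inv _ _
  have hrow : ∀ c, c ≠ i → c ≠ j → ∀ x y,
      z * (Φ.X j c x * Φ.X i c y) * z⁻¹ = Φ.X j c x * Φ.X i c y := by
    intro c hci hcj x y
    obtain ⟨x', y', h⟩ := Φ.rowPair hij hci hcj hz x y
    have h' := congrArg (fun g => act σ g (e c)) h
    simp only [act_mul, hact, hact'] at h'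
    rw [Φ.act_X (Ne.symm hci), Φ.act_X (Ne.symm hcj), Φ.act_X (Ne.symm hci),
      Φ.act_X (Ne.symm hcj)] at h'
    have hx := congrFun h' j
    have hy := congrFun h' i
    simp [e, hij, hij.symm, hci, hcj, Ne.symm hci, Ne.symm hcj] at hx hy
    rw [h, hx, hy]
  have hcol : ∀ c, c ≠ i → c ≠ j → ∀ x y,
      z * (Φ.X c j x * Φ.X c i y) * z⁻¹ = Φ.X c j x * Φ.X c i y := by
    intro c hci hcj x y
    obtain ⟨x', y', h⟩ := Φ.colPair hij hci hcj hz x y
    have hj' := congrArg (fun g => act σ g (e j) c) h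
    have hi' := congrArg (fun g => act σ g (e i) c) h
    simp only [act_mul, hact, hact'] at hj' hi'
    rw [← act_mul, ← act_mul, Φ.act_pair hci hcj, Φ.act_pair hci hcj] at hj' hi'
    simp [e, hij, hij.symm, hci, hcj, Ne.symm hci, Ne.symm hcj] at hj' hi'
    rw [h, hj', hi']
  have hout : ∀ c, c ≠ i → c ≠ j → ∀ a, Commute z (Φ.X i c a) ∧ Commute z (Φ.X j c a) ∧
      Commute z (Φ.X c i a) ∧ Commute z (Φ.X c j a) := by
    intro c hci hcj a
    refine ⟨?_, ?_, ?_, ?_⟩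
    · have := hrow c hci hcj 0 a
      rw [Φ.zero (Ne.symm hcj), one_mul] at this
      exact mul_inv_eq_iff_eq_mul.1 this
    · have := hrow c hci hcj a 0
      rw [Φ.zero (Ne.symm hci), mul_one] at this
      exact mul_inv_eq_iff_eq_mul.1 this
    · have := hcol c hci hcj 0 a
      rw [Φ.zero hcj, one_mul] at this
      exact mul_inv_eq_iff_eq_mul.1 this
    · have := hcol c hci hcj a 0
      rw [Φ.zero hci, mul_one] at this
      exact mul_inv_eq_iff_eq_mul.1 this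
  have hgen : ∀ a b : ι, a ≠ b → ∀ x, Commute z (Φ.X a b x) := by
    intro a b hab x
    by_cases hai : a = i
    · subst hai
      by_cases hbj : b = j
      · subst hbj
        rw [← mul_one x, ← Φ.rel hil hjl.symm hij x 1, commutatorElement_def]
        have h1 := (hout l hil.symm hjl.symm x).1
        have h2 := (hout l hil.symm hjl.symm 1).2.2.2
        exact ((h1.mul_right h2).mul_right h1.inv_right).mul_right h2.inv_right
      · exact (hout b hab.symm hbj x).1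
    by_cases haj : a = j
    · subst haj
      by_cases hbi : b = i
      · subst hbi
        rw [← mul_one x, ← Φ.rel hjl hil.symm hij.symm x 1, commutatorElement_def]
        have h1 := (hout l hil.symm hjl.symm x).2.1
        have h2 := (hout l hil.symm hjl.symm 1).2.2.1
        exact ((h1.mul_right h2).mul_right h1.inv_right).mul_right h2.inv_right
      · exact (hout b hbi hab.symm x).2.1
    by_cases hbi : b = i
    · subst hbi; exact (hout a hai haj x).2.2.1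
    by_cases hbj : b = j
    · subst hbj; exact (hout a hai haj x).2.2.2
    have hle : Φ.E {i, j} ≤ Subgroup.centralizer {Φ.X a b x} := (Subgroup.closure_le _).2 (by
      intro w hw
      rw [SetLike.mem_coe, Subgroup.mem_centralizer_singleton_iff]
      rcases Φ.gens_pair hw with ⟨h, c, rfl⟩ | ⟨h, c, rfl⟩
      · exact (Φ.comm h hab (Ne.symm haj) (Ne.symm hbi) c x).eq
      · exact (Φ.comm h hab (Ne.symm hai) (Ne.symm hbj) c x).eq)
    exact Subgroup.mem_centralizer_singleton_iff.1 (hle hz)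
  induction hg using Subgroup.closure_induction with
  | mem w hw => obtain ⟨a, -, b, -, hab, x, rfl⟩ := hw; exact hgen a b hab x
  | one => exact Commute.one_right z
  | mul a b _ _ ha hb => exact ha.mul_right hb
  | inv a _ ha => exact ha.inv_right

variable [Fintype F]

include Φ in
/-- Vanishing of the symbols: the torus map is multiplicative. -/
theorem H_mul (hij : i ≠ j) (hil : i ≠ l) (hjl : j ≠ l) (u v : Fˣ) :
    Φ.H i j ((u * v : Fˣ) : F) = Φ.H i j (u : F) * Φ.H i j (v : F) := by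
  have hU : ∀ {a b : ι}, a ≠ b → ∀ t : F, Φ.H a b t ∈ Φ.E Finset.univ := by
    intro a b hab t
    refine Subgroup.closure_mono ?_ (Φ.H_mem hab t)
    rintro w ⟨p, -, q, -, h, c, e⟩
    exact ⟨p, Finset.mem_univ _, q, Finset.mem_univ _, h, c, e⟩
  let C : Fˣ → Fˣ → Γ := fun u v =>
    Φ.H i j ((u * v : Fˣ) : F) * (Φ.H i j (u : F))⁻¹ * (Φ.H i j (v : F))⁻¹
  have hCdef : ∀ u v, C u v = ⁅Φ.H i l (u : F), Φ.H i j (v : F)⁆ := fun u v => by
    rw [commutatorElement_def, Φ.H_conj_H hil hij hjl.symm u.ne_zero v.ne_zero]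
    simp [C]
  have hCc : ∀ u v, ∀ g ∈ Φ.E Finset.univ, Commute (C u v) g := fun u v g hg =>
    Φ.kernel_commute hij hil hjl (mul_mem (mul_mem (Φ.H_mem hij _) (inv_mem (Φ.H_mem hij _)))
      (inv_mem (Φ.H_mem hij _)))
      (by simpa [C] using Φ.σ_H_mul hij u.ne_zero v.ne_zero) hg
  have hCl : ∀ u u' v, C (u * u') v = C u v * C u' v := by
    intro u u' v
    set A := Φ.H i l (u : F)
    set B := Φ.H i l (u' : F)
    set D := Φ.H i j (v : F)
    set c := Φ.H i l ((u : F) * u') * A⁻¹ * B⁻¹ with hc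
    have hcc : ∀ g ∈ Φ.E Finset.univ, Commute c g := fun g hg =>
      Φ.kernel_commute hil hij hjl.symm (mul_mem (mul_mem (Φ.H_mem hil _)
        (inv_mem (Φ.H_mem hil _))) (inv_mem (Φ.H_mem hil _)))
        (Φ.σ_H_mul hil u.ne_zero u'.ne_zero) hg
    have hsplit : Φ.H i l ((u * u' : Fˣ) : F) = c * (B * A) := by
      rw [Units.val_mul, hc]; group
    have e1 : ⁅c * (B * A), D⁆ = ⁅B * A, D⁆ := by
      rw [commutatorElement_def, commutatorElement_def]
      have h1 := hcc ((B * A) * D * (B * A)⁻¹) (mul_mem (mul_mem (mul_mem (hU hil _) (hU hil _))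
        (hU hij _)) (inv_mem (mul_mem (hU hil _) (hU hil _))))
      calc c * (B * A) * D * (c * (B * A))⁻¹ * D⁻¹
          = c * ((B * A) * D * (B * A)⁻¹) * c⁻¹ * D⁻¹ := by group
        _ = _ := by rw [h1.eq, mul_inv_cancel_right]
    rw [hCdef, hsplit, e1, hCdef u v, hCdef u' v]
    have h2 := hCc u v B (hU hil _)
    have h3 := hCc u v ⁅B, D⁆ (by
      rw [commutatorElement_def]
      exact mul_mem (mul_mem (mul_mem (hU hil _) (hU hij _)) (inv_mem (hU hil _))) (inv_mem (hU hij _)))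
    rw [hCdef] at h2 h3
    calc ⁅B * A, D⁆ = B * ⁅A, D⁆ * B⁻¹ * ⁅B, D⁆ := by
          simp only [commutatorElement_def]; group
      _ = ⁅A, D⁆ * ⁅B, D⁆ := by rw [← h2.eq, mul_inv_cancel_right]
  have hCone : ∀ v, C 1 v = 1 := fun v => by
    show Φ.H i j ((1 * v : Fˣ) : F) * (Φ.H i j ((1 : Fˣ) : F))⁻¹ * (Φ.H i j (v : F))⁻¹ = 1
    rw [one_mul, Units.val_one, Φ.H_one hij, inv_one, mul_one, mul_inv_cancel]
  have hCr : ∀ u v v', C u (v * v') = C u v * C u v' := by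
    intro u v v'
    set A := Φ.H i l (u : F)
    set B := Φ.H i j (v : F)
    set D := Φ.H i j (v' : F)
    have hsplit : Φ.H i j ((v * v' : Fˣ) : F) = C v v' * (D * B) := by
      simp only [C, B, D]; group
    rw [hCdef, hsplit, hCdef u v, hCdef u v']
    have h1 := hCc v v' A (hU hil _)
    have h2 := hCc u v D (hU hij _)
    have h3 := hCc u v' (C u v) (by
      rw [hCdef, commutatorElement_def]
      exact mul_mem (mul_mem (mul_mem (hU hil _) (hU hij _)) (inv_mem (hU hil _))) (inv_mem (hU hij _)))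
    rw [hCdef] at h2 h3
    rw [hCdef] at h3
    calc ⁅A, C v v' * (D * B)⁆ = A * C v v' * (D * B) * A⁻¹ * (D * B)⁻¹ * (C v v')⁻¹ := by
          simp only [commutatorElement_def]; group
      _ = C v v' * (A * (D * B) * A⁻¹ * (D * B)⁻¹) * (C v v')⁻¹ := by
          rw [← h1.eq]; group
      _ = A * (D * B) * A⁻¹ * (D * B)⁻¹ := by
          have h4 := hCc v v' (A * (D * B) * A⁻¹ * (D * B)⁻¹)
            (mul_mem (mul_mem (mul_mem (hU hil _) (mul_mem (hU hij _) (hU hij _)))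
              (inv_mem (hU hil _))) (inv_mem (mul_mem (hU hij _) (hU hij _))))
          rw [h4.eq, mul_inv_cancel_right]
      _ = ⁅A, D⁆ * (D * ⁅A, B⁆ * D⁻¹) := by simp only [commutatorElement_def]; group
      _ = ⁅A, B⁆ * ⁅A, D⁆ := by rw [← h2.eq, mul_inv_cancel_right]; exact h3.eq
  obtain ⟨ν, hν⟩ := SL2Pres.exists_gen_unit F
  have hpow : ∀ x : Fˣ, ∃ a : ℕ, x = ν ^ a := fun x => by
    obtain ⟨a, ha⟩ := SL2Pres.exists_pow_eq hν x.ne_zero
    exact ⟨a, Units.ext (by rw [ha, Units.val_pow_eq_pow_val])⟩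
  have hCone' : ∀ w, C w 1 = 1 := fun w => by
    have h := hCr w 1 1
    rw [mul_one] at h
    exact left_eq_mul.mp h
  have hexp1 : ∀ b : ℕ, C ν (ν ^ b) = C ν ν ^ b := by
    intro b
    induction b with
    | zero => rw [pow_zero, pow_zero, hCone']
    | succ b ihb => rw [pow_succ, hCr, ihb, pow_succ]
  have hexp : ∀ a b : ℕ, C (ν ^ a) (ν ^ b) = C ν ν ^ (a * b) := by
    intro a b
    induction a with
    | zero => rw [pow_zero, hCone, zero_mul, pow_zero]
    | succ a ih => rw [pow_succ, hCl, ih, add_mul, one_mul, pow_add, hexp1]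
  have hswap : ∀ a b : Fˣ, Φ.H i j (a : F) * Φ.H i j (b : F) = (C b a)⁻¹ * Φ.H i j ((b * a : Fˣ) : F) :=
    fun a b => by simp only [C]; group
  -- the symbol has order at most two
  have hsq : C ν ν * C ν ν = 1 := by
    have hw := Φ.W_conj_W hij hil hjl ν.ne_zero (one_ne_zero : (1 : F) ≠ 0)
    rw [div_one, mul_inv_eq_iff_eq_mul, Φ.W_eq hij ((ν : F) ^ 2)] at hw
    have h2 : Φ.W i j 1 * Φ.H i j (ν : F) * (Φ.W i j 1)⁻¹ = Φ.H i j ((ν⁻¹ : Fˣ) : F) := by
      conv_lhs => enter [1, 2]; unfold H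
      rw [← conj_mul, Φ.W_conj_W hij hil hjl one_ne_zero ν.ne_zero,
        Φ.W_conj_W hij hil hjl one_ne_zero (neg_ne_zero.2 one_ne_zero)]
      simp [H, div_neg]
    rw [Φ.W_eq hij (ν : F), mul_assoc (Φ.H i j ((ν : F) ^ 2)),
      show Φ.W i j 1 * (Φ.H i j (ν : F) * Φ.W i j 1) = (Φ.W i j 1 * Φ.H i j (ν : F) *
        (Φ.W i j 1)⁻¹) * (Φ.W i j 1 * Φ.W i j 1) by group, h2, mul_assoc (Φ.H i j (ν : F)),
      ← mul_assoc (Φ.H i j ((ν : F) ^ 2))] at hw
    have h3 : Φ.H i j (ν : F) = Φ.H i j ((ν ^ 2 : Fˣ) : F) * Φ.H i j ((ν⁻¹ : Fˣ) : F) := by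
      rw [Units.val_pow_eq_pow_val]; exact mul_right_cancel hw
    rw [hswap, show ν⁻¹ * ν ^ 2 = ν by group, right_eq_mul, inv_eq_one] at h3
    have h4 := hCl ν⁻¹ ν (ν ^ 2)
    rw [inv_mul_cancel, hCone, h3, one_mul, pow_two, hCr] at h4
    exact h4.symm
  have hC : C ν ν = 1 := by
    by_cases h2 : ringChar F = 2
    · have hodd : Odd (Fintype.card F - 1) := by
        have := FiniteField.even_card_of_char_two (F := F) h2
        have := Fintype.one_lt_card (α := F)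
        exact Nat.odd_iff.2 (by omega)
      have h := hexp (Fintype.card F - 1) 1
      rw [show ν ^ (Fintype.card F - 1) = 1 by rw [← hν, pow_orderOf_eq_one], hCone, mul_one] at h
      obtain ⟨k, hk⟩ := hodd
      rw [hk, pow_succ, pow_mul, pow_two, hsq, one_pow, one_mul] at h
      exact h.symm
    -- a non-square with non-square complement
    classical
    obtain ⟨u, hu0, hu, hu'⟩ : ∃ u : F, u ≠ 0 ∧ ¬IsSquare u ∧ ¬IsSquare (1 - u) := by
      by_contra hne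
      push Not at hne
      obtain ⟨n₀, hn₀⟩ := FiniteField.exists_nonsquare h2
      let N : Finset F := Finset.univ.filter fun x => ¬IsSquare x
      let S : Finset F := Finset.univ.filter fun x => IsSquare x ∧ x ≠ 0 ∧ x ≠ 1
      have hNS : N.card ≤ S.card := by
        refine Finset.card_le_card_of_injOn (fun x => 1 - x) (fun x hx => ?_)
          (fun x _ y _ hxy => by simpa using hxy)
        simp only [N, Finset.coe_filter, Finset.mem_univ, true_and, Set.mem_setOf_eq] at hx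
        simp only [S, Finset.coe_filter, Finset.mem_univ, true_and, Set.mem_setOf_eq]
        refine ⟨hne x (fun h => hx (h ▸ IsSquare.zero)) hx, fun h => hx ?_, fun h => hx ?_⟩
        · rw [← sub_eq_zero.1 h]; exact IsSquare.one
        · rw [show x = 0 by linear_combination -h]; exact IsSquare.zero
      let S' : Finset F := Finset.univ.filter fun x => IsSquare x ∧ x ≠ 0
      have hS' : S'.card ≤ N.card := by
        refine Finset.card_le_card_of_injOn (fun x => n₀ * x) (fun x hx => ?_)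
          (fun x _ y _ hxy => mul_left_cancel₀ (fun h : n₀ = 0 => hn₀ (h ▸ IsSquare.zero)) hxy)
        simp only [S', Finset.coe_filter, Finset.mem_univ, true_and, Set.mem_setOf_eq] at hx
        simp only [N, Finset.coe_filter, Finset.mem_univ, true_and, Set.mem_setOf_eq]
        exact fun h => hn₀ (by
          have := h.div hx.1
          rwa [mul_div_cancel_right₀ _ hx.2] at this)
      have hlt : S.card < S'.card := Finset.card_lt_card ⟨fun x hx => by
          simp only [S, S', Finset.mem_filter] at hx ⊢; exact ⟨hx.1, hx.2.1, hx.2.2.1⟩,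
        fun hsub => by
          have : (1 : F) ∈ S := hsub (by simp [S'])
          simp [S] at this⟩
      omega
    have hv0 : 1 - u ≠ 0 := fun h => hu' (h ▸ IsSquare.zero)
    obtain ⟨a, ha⟩ := hpow (Units.mk0 u hu0)
    obtain ⟨b, hb⟩ := hpow (Units.mk0 _ hv0)
    set u' := Units.mk0 u hu0
    set v' := Units.mk0 (1 - u) hv0
    have hao : Odd a := Nat.not_even_iff_odd.1 fun he => hu (by
      obtain ⟨k, rfl⟩ := he
      exact ⟨(ν : F) ^ k, by rw [show u = (u' : F) from rfl, ha, Units.val_pow_eq_pow_val, pow_add]⟩)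
    have hbo : Odd b := Nat.not_even_iff_odd.1 fun he => hu' (by
      obtain ⟨k, rfl⟩ := he
      exact ⟨(ν : F) ^ k, by rw [show 1 - u = (v' : F) from rfl, hb, Units.val_pow_eq_pow_val, pow_add]⟩)
    -- the Steinberg identity
    have hid : Φ.W i j (u : F) * Φ.W i j (-(u * (1 - u))) * Φ.W i j (1 - u) = Φ.W i j 1 := by
      have hY : ∀ {s : F}, s ≠ 0 → Φ.X i j s = Φ.X j i s⁻¹ * Φ.W i j s * Φ.X j i s⁻¹ := by
        intro s hs
        rw [Φ.W_alt hij hil hjl hs, ← Φ.inv hij.symm]; group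
      have huv : u * (1 - u) ≠ 0 := mul_ne_zero hu0 hv0
      have hmid : Φ.X j i u⁻¹ * Φ.X j i (1 - u)⁻¹ = Φ.X i j (u * (1 - u)) *
          Φ.W i j (-(u * (1 - u))) * Φ.X i j (u * (1 - u)) := by
        rw [← Φ.add hij.symm, show u⁻¹ + (1 - u)⁻¹ = (u * (1 - u))⁻¹ by field_simp; ring]
        unfold W
        rw [inv_neg, neg_neg, ← Φ.inv hij]; group
      have hL : Φ.W i j u * Φ.X i j (u * (1 - u)) =
          Φ.X j i (-((1 - u) / u)) * Φ.W i j u := by
        rw [← mul_inv_eq_iff_eq_mul, (Φ.W_self hij hil hjl hu0 _).1]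
        congr 2; field_simp
      have hR : Φ.X i j (u * (1 - u)) * Φ.W i j (1 - u) =
          Φ.W i j (1 - u) * Φ.X j i (-(u / (1 - u))) := by
        have := mul_inv_eq_iff_eq_mul.1 (Φ.W_self hij hil hjl hv0 (-(u / (1 - u)))).2
        rw [this]
        congr 2; field_simp
      have h1 : Φ.W i j 1 = Φ.X j i (-1) * (Φ.X i j u * Φ.X i j (1 - u)) * Φ.X j i (-1) := by
        rw [← Φ.add hij, add_sub_cancel, Φ.W_alt hij hil hjl one_ne_zero, inv_one]
      have e1 : -1 + u⁻¹ + -((1 - u) / u) = 0 := by field_simp; ring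
      have e2 : -(u / (1 - u)) + (1 - u)⁻¹ + -1 = 0 := by field_simp; ring
      rw [h1, hY hu0, hY hv0]
      symm
      calc Φ.X j i (-1) * (Φ.X j i u⁻¹ * Φ.W i j u * Φ.X j i u⁻¹ *
            (Φ.X j i (1 - u)⁻¹ * Φ.W i j (1 - u) * Φ.X j i (1 - u)⁻¹)) * Φ.X j i (-1)
          = (Φ.X j i (-1) * Φ.X j i u⁻¹) * Φ.W i j u * (Φ.X j i u⁻¹ * Φ.X j i (1 - u)⁻¹) *
            Φ.W i j (1 - u) * (Φ.X j i (1 - u)⁻¹ * Φ.X j i (-1)) := by group
        _ = (Φ.X j i (-1) * Φ.X j i u⁻¹) * (Φ.W i j u * Φ.X i j (u * (1 - u))) *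
            Φ.W i j (-(u * (1 - u))) * (Φ.X i j (u * (1 - u)) * Φ.W i j (1 - u)) *
            (Φ.X j i (1 - u)⁻¹ * Φ.X j i (-1)) := by rw [hmid]; group
        _ = (Φ.X j i (-1) * Φ.X j i u⁻¹ * Φ.X j i (-((1 - u) / u))) * Φ.W i j u *
            Φ.W i j (-(u * (1 - u))) * Φ.W i j (1 - u) *
            (Φ.X j i (-(u / (1 - u))) * Φ.X j i (1 - u)⁻¹ * Φ.X j i (-1)) := by
              rw [hL, hR]; group
        _ = _ := by
          rw [← Φ.add hij.symm, ← Φ.add hij.symm, ← Φ.add hij.symm, ← Φ.add hij.symm, e1, e2,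
            Φ.zero hij.symm]; group
    let y' : Fˣ := -(u' * v')⁻¹
    have hww : Φ.W i j 1 * Φ.W i j 1 = (Φ.H i j ((-1 : Fˣ) : F))⁻¹ := by
      rw [Units.val_neg, Units.val_one, H, mul_inv_rev, Φ.W_inv hij, neg_neg]
    have hwh : Φ.W i j 1 * Φ.H i j (-(u * (1 - u))) = Φ.H i j (y' : F) * Φ.W i j 1 := by
      rw [← mul_inv_eq_iff_eq_mul]
      conv_lhs => enter [1, 2]; unfold H
      rw [← conj_mul, Φ.W_conj_W hij hil hjl one_ne_zero (neg_ne_zero.2 (mul_ne_zero hu0 hv0)),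
        Φ.W_conj_W hij hil hjl one_ne_zero (neg_ne_zero.2 one_ne_zero)]
      simp [y', u', v', H, div_neg]
    rw [Φ.W_eq hij u, Φ.W_eq hij (-(u * (1 - u))), Φ.W_eq hij (1 - u)] at hid
    have hid2 : Φ.H i j u * Φ.H i j (y' : F) * (Φ.H i j ((-1 : Fˣ) : F))⁻¹ *
        Φ.H i j (1 - u) = 1 := by
      rw [← hww]
      calc Φ.H i j u * Φ.H i j (y' : F) * (Φ.W i j 1 * Φ.W i j 1) * Φ.H i j (1 - u)
          = Φ.H i j u * (Φ.H i j (y' : F) * Φ.W i j 1) * Φ.W i j 1 * Φ.H i j (1 - u) := by group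
        _ = (Φ.H i j u * Φ.W i j 1 * (Φ.H i j (-(u * (1 - u))) * Φ.W i j 1) *
              (Φ.H i j (1 - u) * Φ.W i j 1)) * (Φ.W i j 1)⁻¹ := by rw [← hwh]; group
        _ = 1 := by rw [hid, mul_inv_cancel]
    have hsymm : ∀ x y, C x y = C y x := fun x y => by
      obtain ⟨a, rfl⟩ := hpow x; obtain ⟨b, rfl⟩ := hpow y
      rw [hexp, hexp, mul_comm]
    have hcommH : ∀ x y : Fˣ, Commute (Φ.H i j (x : F)) (Φ.H i j (y : F)) := fun x y => by
      show _ = _
      rw [hswap, hswap, hsymm, mul_comm x y]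
    have hid3 : Φ.H i j ((-1 : Fˣ) : F) = Φ.H i j (y' : F) * (Φ.H i j (u' : F) * Φ.H i j (v' : F)) := by
      change Φ.H i j (u' : F) * Φ.H i j (y' : F) * (Φ.H i j ((-1 : Fˣ) : F))⁻¹ *
        Φ.H i j (v' : F) = 1 at hid2
      rw [mul_assoc _ _ (Φ.H i j (v' : F)), ((hcommH (-1) v').inv_left).eq, ← mul_assoc,
        mul_inv_eq_one] at hid2
      rw [← hid2, ← mul_assoc, (hcommH y' u').eq]
    rw [hswap u' v', ← mul_assoc, ((hCc v' u' _ (hU hij (y' : F))).inv_left).symm.eq, mul_assoc,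
      hswap, ← mul_assoc, show v' * u' * y' = -1 by simp [y', mul_comm u'], ← mul_inv_rev] at hid3
    have hfin : C (v' * u') y' * C v' u' = 1 := inv_eq_one.1 (right_eq_mul.1 hid3)
    obtain ⟨s, hs⟩ := hpow y'
    rw [ha, hb, hs, ← pow_add, hexp, hexp] at hfin
    obtain ⟨k, hk⟩ := hao
    obtain ⟨k', hk'⟩ := hbo
    rw [← pow_add, show (b + a) * s + b * a = 2 * ((k + k' + 1) * s + 2 * k * k' + k + k') + 1 by
      subst hk hk'; ring, pow_succ, pow_mul, pow_two, hsq, one_pow, one_mul] at hfin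
    exact hfin
  obtain ⟨a, rfl⟩ := hpow u
  obtain ⟨b, rfl⟩ := hpow v
  rw [hswap, hexp, hC, one_pow, inv_one, one_mul, mul_comm]

end Cfsg.Agent.SLMult.Sys
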